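import Cfsg.Agent.Base
import Cfsg.Agent.Orth.Forms

/-!
# Symmetric composition algebras and triality

A symmetric composition algebra on `(V, Q)` gives the triality automorphism of `PΩ(Q)`.
The split para-octonions provide such an algebra for the plus type form in dimension eight.
-/

set_option autoImplicit false

namespace CL.Trial

open QuadraticMap Module CL.Orth

variable {F V : Type*} [Field F] [AddCommGroup V] [Module F V]

/-- A symmetric composition algebra structure. -/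
structure SymComp (Q : QuadraticForm F V) where
  mul : V →ₗ[F] V →ₗ[F] V
  Q_mul : ∀ x y, Q (mul x y) = Q x * Q y
  mul_mul : ∀ x y, mul (mul x y) x = Q x • y
  mul_mul' : ∀ x y, mul x (mul y x) = Q x • y
  assoc : ∀ x y z, polar Q (mul x y) z = polar Q x (mul y z)

namespace SymComp

variable {Q : QuadraticForm F V} (C : SymComp Q)

theorem lin_left (x y z : V) :
    C.mul (C.mul x y) z + C.mul (C.mul z y) x = polar Q x z • y := by
  have h := C.mul_mul (x + z) y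
  simp only [map_add, LinearMap.add_apply, C.mul_mul, Q_add, add_smul] at h
  linear_combination (norm := module) h

theorem polar_mul_left (x x' y : V) :
    polar Q (C.mul x y) (C.mul x' y) = polar Q x x' * Q y := by
  rw [C.assoc, C.mul_mul', polar_smul_right', mul_comm]

theorem polar_mul_right (x y y' : V) :
    polar Q (C.mul x y) (C.mul x y') = Q x * polar Q y y' := by
  rw [polar_comm, ← C.assoc, C.mul_mul, polar_smul_left', polar_comm]

theorem refl_mul {a : V} (ha : Q a ≠ 0) (x y : V) :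
    (refl Q a).1 (C.mul y x) = -(Q a)⁻¹ • C.mul (C.mul x a) (C.mul a y) := by
  have h := C.lin_left x a (C.mul a y)
  rw [C.mul_mul, map_smul, LinearMap.smul_apply] at h
  have h2 : polar Q x (C.mul a y) = polar Q a (C.mul y x) := by
    rw [polar_comm, C.assoc]
  rw [refl_apply, eq_sub_of_add_eq h, h2, smul_sub, smul_smul, smul_smul, neg_mul, neg_mul,
    inv_mul_cancel₀ ha]
  module

/-- Related triples. -/
def Tri (g₀ g₁ g₂ : O Q) : Prop := ∀ x y, g₀.1 (C.mul x y) = C.mul (g₁.1 x) (g₂.1 y)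

variable {C}

theorem Tri.cyc (hQ : Q.polarBilin.Nondegenerate) {g₀ g₁ g₂ : O Q} (h : C.Tri g₀ g₁ g₂) :
    C.Tri g₁ g₂ g₀ := fun x y => by
  rw [← sub_eq_zero]
  refine eq_zero_of_polar hQ fun z => ?_
  obtain ⟨z, rfl⟩ := g₁.1.surjective z
  rw [polar_sub_left, O_polar, C.assoc (g₂.1 x), polar_comm Q (g₂.1 x), C.assoc (g₀.1 y), ← h,
    O_polar, ← C.assoc y, polar_comm Q (C.mul y z), ← C.assoc, sub_self]

variable (C)

/-- The group of related triples. -/
def triGrp : Subgroup (O Q × O Q × O Q) where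
  carrier := {t | C.Tri t.1 t.2.1 t.2.2}
  one_mem' := fun _ _ => rfl
  mul_mem' := fun {a b} ha hb x y => by
    show a.1.1 (b.1.1 _) = C.mul (a.2.1.1 (b.2.1.1 x)) (a.2.2.1 (b.2.2.1 y))
    rw [hb, ha]
  inv_mem' := fun {a} ha x y => by
    apply a.1.1.injective
    show a.1.1 ((a.1⁻¹).1 _) = a.1.1 (C.mul ((a.2.1⁻¹).1 x) ((a.2.2⁻¹).1 y))
    rw [ha, O_apply_inv_apply, O_apply_inv_apply, O_apply_inv_apply]

theorem mem_triGrp {t : O Q × O Q × O Q} : t ∈ C.triGrp ↔ C.Tri t.1 t.2.1 t.2.2 := Iff.rfl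

/-- `x ↦ c⁻¹ (b x) a` -/
def rl (a b : V) (hab : Q a = Q b) (ha : Q a ≠ 0) : O Q :=
  mkO ((Q a)⁻¹ • (C.mul.flip a).comp (C.mul b)) ((Q a)⁻¹ • (C.mul.flip b).comp (C.mul a))
    (fun x => by
      simp only [LinearMap.smul_apply, LinearMap.comp_apply, LinearMap.flip_apply, map_smul,
        C.mul_mul', C.mul_mul, smul_smul, ← hab]
      rw [show (Q a)⁻¹ * ((Q a)⁻¹ * (Q a * Q a)) = 1 by field_simp, one_smul])
    (fun x => by
      simp only [LinearMap.smul_apply, LinearMap.comp_apply, LinearMap.flip_apply, map_smul,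
        C.mul_mul', C.mul_mul, smul_smul, ← hab]
      rw [show (Q a)⁻¹ * ((Q a)⁻¹ * (Q a * Q a)) = 1 by field_simp, one_smul])
    (fun x => by
      simp only [LinearMap.smul_apply, LinearMap.comp_apply, LinearMap.flip_apply, Q_smul,
        C.Q_mul, ← hab]
      field_simp)

/-- `y ↦ c⁻¹ a (y b)` -/
def lr (a b : V) (hab : Q a = Q b) (ha : Q a ≠ 0) : O Q :=
  mkO ((Q a)⁻¹ • (C.mul a).comp (C.mul.flip b)) ((Q a)⁻¹ • (C.mul b).comp (C.mul.flip a))
    (fun x => by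
      simp only [LinearMap.smul_apply, LinearMap.comp_apply, LinearMap.flip_apply, map_smul,
        C.mul_mul', C.mul_mul, smul_smul, ← hab]
      rw [show (Q a)⁻¹ * ((Q a)⁻¹ * (Q a * Q a)) = 1 by field_simp, one_smul])
    (fun x => by
      simp only [LinearMap.smul_apply, LinearMap.comp_apply, LinearMap.flip_apply, map_smul,
        C.mul_mul', C.mul_mul, smul_smul, ← hab]
      rw [show (Q a)⁻¹ * ((Q a)⁻¹ * (Q a * Q a)) = 1 by field_simp, one_smul])
    (fun x => by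
      simp only [LinearMap.smul_apply, LinearMap.comp_apply, LinearMap.flip_apply, Q_smul,
        C.Q_mul, ← hab]
      field_simp)

theorem tri_refl_refl (a b : V) (hab : Q a = Q b) (ha : Q a ≠ 0) :
    C.Tri (refl Q a * refl Q b) (C.rl a b hab ha) (C.lr a b hab ha) := fun x y => by
  rw [O_mul_apply, C.refl_mul (hab ▸ ha), map_smul, C.refl_mul ha, rl, lr, mkO_apply, mkO_apply]
  simp only [LinearMap.smul_apply, LinearMap.comp_apply, LinearMap.flip_apply, map_smul,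
    smul_smul, ← hab]
  congr 1
  ring

variable [FiniteDimensional F V]

theorem exists_tri_O (hQ : Q.polarBilin.Nondegenerate) (h5 : 5 ≤ finrank F V) {g : O Q}
    (hg : g ∈ E Q) : ∃ g₁ g₂, C.Tri g g₁ g₂ := by
  have : E Q ≤ C.triGrp.map (MonoidHom.fst _ _) := E_le fun u w hu _ =>
    eich_mem_of_tame (tame_of_finrank_ne_four hQ (by omega)) _ (fun w huw hw => by
      have h1 : Q (w - Q w • u) = Q w := by
        qsimp [hu, polar_comm Q w u, huw]; ring
      rw [eich_eq_refl_mul_refl hu huw hw]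
      exact ⟨(_, _, _), C.tri_refl_refl _ _ h1 (h1.symm ▸ hw), rfl⟩) w
  obtain ⟨t, ht, rfl⟩ := this hg
  exact ⟨_, _, ht⟩

theorem exists_tri (hQ : Q.polarBilin.Nondegenerate) (h5 : 5 ≤ finrank F V) (hI : IndexTwo Q)
    (g : E Q) : ∃ g₁ g₂ : E Q, C.Tri g g₁ g₂ := by
  obtain ⟨u, -, hu, -, -, hu0, -⟩ := id hI
  have hE := E_eq_commutator_of_five hQ h5 hu hu0
  let K : Subgroup (O Q) := (C.triGrp ⊓ ((⊤ : Subgroup (O Q)).prod ((E Q).prod (E Q)))).map
    (MonoidHom.fst _ _)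
  have : ⁅E Q, E Q⁆ ≤ K := Subgroup.commutator_le.2 fun a ha b hb => by
    obtain ⟨a₁, a₂, ha'⟩ := C.exists_tri_O hQ h5 ha
    obtain ⟨b₁, b₂, hb'⟩ := C.exists_tri_O hQ h5 hb
    refine ⟨((a, a₁, a₂) : O Q × O Q × O Q) * (b, b₁, b₂) * (a, a₁, a₂)⁻¹ * (b, b₁, b₂)⁻¹, ⟨?_, trivial, ?_, ?_⟩, rfl⟩
    · have h1 : ((a, a₁, a₂) : O Q × O Q × O Q) ∈ C.triGrp := ha'
      have h2 : ((b, b₁, b₂) : O Q × O Q × O Q) ∈ C.triGrp := hb'
      exact C.triGrp.mul_mem (C.triGrp.mul_mem (C.triGrp.mul_mem h1 h2) (C.triGrp.inv_mem h1))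
        (C.triGrp.inv_mem h2)
    · rw [hE]
      exact Subgroup.commutator_mem_commutator (Subgroup.mem_top a₁) (Subgroup.mem_top b₁)
    · rw [hE]
      exact Subgroup.commutator_mem_commutator (Subgroup.mem_top a₂) (Subgroup.mem_top b₂)
  rw [commutator_E_E hQ h5 hI] at this
  obtain ⟨⟨t₀, t₁, t₂⟩, ⟨h1, -, h2, h3⟩, h4⟩ := this g.2
  obtain rfl : t₀ = g := h4
  exact ⟨⟨t₁, h2⟩, ⟨t₂, h3⟩, h1⟩

/-- The related triples inside `Ω`. -/
def triE : Subgroup (E Q × E Q × E Q) :=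
  C.triGrp.comap ((E Q).subtype.prodMap ((E Q).subtype.prodMap (E Q).subtype))

omit [FiniteDimensional F V] in
theorem mem_triE {t : E Q × E Q × E Q} : t ∈ C.triE ↔ C.Tri t.1 t.2.1 t.2.2 := Iff.rfl

/-- first projection to `PΩ` -/
def p₀ : C.triE →* E Q ⧸ Subgroup.center (E Q) :=
  (QuotientGroup.mk' _).comp ((MonoidHom.fst _ _).comp C.triE.subtype)

/-- second projection to `PΩ` -/
def p₁ : C.triE →* E Q ⧸ Subgroup.center (E Q) :=
  (QuotientGroup.mk' _).comp (((MonoidHom.fst _ _).comp (MonoidHom.snd _ _)).comp C.triE.subtype)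

theorem p₀_surjective (hQ : Q.polarBilin.Nondegenerate) (h5 : 5 ≤ finrank F V)
    (hI : IndexTwo Q) : Function.Surjective C.p₀ := fun g => by
  induction g using QuotientGroup.induction_on with | _ g =>
  obtain ⟨g₁, g₂, h⟩ := C.exists_tri hQ h5 hI g
  exact ⟨⟨(g, g₁, g₂), h⟩, rfl⟩

theorem p₁_surjective (hQ : Q.polarBilin.Nondegenerate) (h5 : 5 ≤ finrank F V)
    (hI : IndexTwo Q) : Function.Surjective C.p₁ := fun g => by
  induction g using QuotientGroup.induction_on with | _ g =>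
  obtain ⟨g₁, g₂, h⟩ := C.exists_tri hQ h5 hI g
  exact ⟨⟨(g₂, g, g₁), (h.cyc hQ).cyc hQ⟩, rfl⟩

theorem exists_mul_ne_zero (hQ : Q.polarBilin.Nondegenerate) (h1 : 1 ≤ finrank F V) {y : V}
    (hy : y ≠ 0) : ∃ x, C.mul x y ≠ 0 := by
  obtain ⟨x, hx⟩ := exists_Q_ne_zero hQ h1
  refine ⟨x, fun h => ?_⟩
  have := C.mul_mul x y
  rw [h, map_zero, LinearMap.zero_apply] at this
  exact hy ((smul_eq_zero.1 this.symm).resolve_left hx)

theorem exists_mul_ne_zero' (hQ : Q.polarBilin.Nondegenerate) (h1 : 1 ≤ finrank F V) {y : V}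
    (hy : y ≠ 0) : ∃ x, C.mul y x ≠ 0 := by
  obtain ⟨x, hx⟩ := exists_Q_ne_zero hQ h1
  refine ⟨x, fun h => ?_⟩
  have := C.mul_mul' x y
  rw [h, map_zero] at this
  exact hy ((smul_eq_zero.1 this.symm).resolve_left hx)

variable {C}

theorem Tri.mem_center (hQ : Q.polarBilin.Nondegenerate) (h5 : 5 ≤ finrank F V)
    (hI : IndexTwo Q) {g₀ g₁ g₂ : E Q} (h : C.Tri g₀ g₁ g₂) (h0 : g₀ ∈ Subgroup.center (E Q)) :
    g₁ ∈ Subgroup.center (E Q) := by
  have := isSimpleGroup_E_quot_center hQ h5 hI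
  obtain ⟨y, -, hy, -, -, hy0, -⟩ := id hI
  rcases (Subgroup.Normal.map C.p₀.normal_ker C.p₁ (C.p₁_surjective hQ h5 hI)).eq_bot_or_eq_top
    with hb | ht
  · have h1 : C.p₁ ⟨(g₀, g₁, g₂), h⟩ ∈ C.p₀.ker.map C.p₁ :=
      Subgroup.mem_map_of_mem _ ((QuotientGroup.eq_one_iff g₀).2 h0)
    rw [hb] at h1
    exact (QuotientGroup.eq_one_iff g₁).1 h1
  · exfalso
    obtain ⟨x, hx⟩ := C.exists_mul_ne_zero hQ (by omega) hy0
    have hz : Q (C.mul x y) = 0 := by rw [C.Q_mul, hy, mul_zero]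
    obtain ⟨z, hz1, hz2⟩ := exists_hyp_partner' hQ hz hx
    have hz0 : z ≠ 0 := (IsHypPair.symm ⟨hz, hz1, hz2⟩).ne_zero
    obtain ⟨e, he, hez⟩ := hI.exists_E_apply_eq hQ hz hx hz1 hz0
    obtain ⟨⟨⟨t₀, t₁, t₂⟩, ht'⟩, ht0, ht1⟩ :
        ((⟨e, he⟩ : E Q) : E Q ⧸ Subgroup.center (E Q)) ∈ C.p₀.ker.map C.p₁ := ht ▸ trivial
    have h2 : t₀ ∈ Subgroup.center (E Q) := (QuotientGroup.eq_one_iff t₀).1 ht0
    have h3 : t₁⁻¹ * ⟨e, he⟩ ∈ Subgroup.center (E Q) := QuotientGroup.eq.1 ht1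
    have h4 := (Tri.cyc hQ (show C.Tri t₀ t₁ t₂ from ht')) x y
    have h5' : polar Q (C.mul x y) (t₁.1.1 (C.mul x y)) = 0 := by
      rw [h4]
      rcases (mem_center_E_iff hQ (by omega) hy hy0 _).1 h2 with h6 | h6 <;> rw [h6]
      · rw [O_one_apply, C.polar_mul_left, hy, mul_zero]
      · rw [negO_apply, map_neg, polar_neg_right, C.polar_mul_left, hy, mul_zero, neg_zero]
    have h7 : e = t₁.1 * (t₁⁻¹ * ⟨e, he⟩ : E Q).1 := by simp
    rw [← hez, h7, O_mul_apply] at hz2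
    rcases (mem_center_E_iff hQ (by omega) hy hy0 _).1 h3 with h6 | h6 <;> rw [h6] at hz2
    · rw [O_one_apply, h5'] at hz2; exact zero_ne_one hz2
    · rw [negO_apply, map_neg, polar_neg_right, h5', neg_zero] at hz2; exact zero_ne_one hz2

variable (C)

theorem ker_p₀_eq (hQ : Q.polarBilin.Nondegenerate) (h5 : 5 ≤ finrank F V)
    (hI : IndexTwo Q) : C.p₀.ker = C.p₁.ker := by
  ext ⟨⟨g₀, g₁, g₂⟩, h⟩
  have h' : C.Tri g₀ g₁ g₂ := h
  refine (QuotientGroup.eq_one_iff g₀).trans (Iff.trans ⟨h'.mem_center hQ h5 hI, fun h1 => ?_⟩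
    (QuotientGroup.eq_one_iff g₁).symm)
  exact ((h'.cyc hQ).cyc hQ).mem_center hQ h5 hI ((h'.cyc hQ).mem_center hQ h5 hI h1)

/-- The triality automorphism of `PΩ`. -/
noncomputable def triality (hQ : Q.polarBilin.Nondegenerate) (h5 : 5 ≤ finrank F V)
    (hI : IndexTwo Q) : MulAut (E Q ⧸ Subgroup.center (E Q)) :=
  ((QuotientGroup.quotientKerEquivOfSurjective _ (C.p₀_surjective hQ h5 hI)).symm.trans
    (QuotientGroup.quotientMulEquivOfEq (C.ker_p₀_eq hQ h5 hI))).trans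
    (QuotientGroup.quotientKerEquivOfSurjective _ (C.p₁_surjective hQ h5 hI))

variable {C}

theorem Tri.triality_apply (hQ : Q.polarBilin.Nondegenerate) (h5 : 5 ≤ finrank F V)
    (hI : IndexTwo Q) {g₀ g₁ g₂ : E Q} (h : C.Tri g₀ g₁ g₂) :
    C.triality hQ h5 hI (g₀ : E Q ⧸ Subgroup.center (E Q)) = g₁ := by
  have h1 : (QuotientGroup.quotientKerEquivOfSurjective _ (C.p₀_surjective hQ h5 hI)).symm
      (g₀ : E Q ⧸ Subgroup.center (E Q)) = ((⟨(g₀, g₁, g₂), h⟩ : C.triE) : _ ⧸ C.p₀.ker) :=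
    (MulEquiv.symm_apply_eq _).2 rfl
  rw [triality, MulEquiv.trans_apply, MulEquiv.trans_apply, h1]
  rfl

variable (C)

theorem triality_pow_three (hQ : Q.polarBilin.Nondegenerate) (h5 : 5 ≤ finrank F V)
    (hI : IndexTwo Q) : C.triality hQ h5 hI ^ 3 = 1 := by
  ext g
  induction g using QuotientGroup.induction_on with | _ g =>
  obtain ⟨g₁, g₂, h⟩ := C.exists_tri hQ h5 hI g
  rw [pow_three, MulAut.mul_apply, MulAut.mul_apply, h.triality_apply, (h.cyc hQ).triality_apply,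
    ((h.cyc hQ).cyc hQ).triality_apply, MulAut.one_apply]

end SymComp

/-! ### The split para-octonions -/

/-- The para-octonion product on `F^8`. -/
def pmul (x y : Fin 4 ⊕ Fin 4 → F) : Fin 4 ⊕ Fin 4 → F :=
  Sum.elim
    ![x (.inr 0) * y (.inr 0) - x (.inl 1) * y (.inr 1) - x (.inl 2) * y (.inr 2)
        - x (.inl 3) * y (.inr 3),
      -(x (.inr 0) * y (.inl 1)) - y (.inl 0) * x (.inl 1)
        - (x (.inr 2) * y (.inr 3) - x (.inr 3) * y (.inr 2)),
      -(x (.inr 0) * y (.inl 2)) - y (.inl 0) * x (.inl 2)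
        - (x (.inr 3) * y (.inr 1) - x (.inr 1) * y (.inr 3)),
      -(x (.inr 0) * y (.inl 3)) - y (.inl 0) * x (.inl 3)
        - (x (.inr 1) * y (.inr 2) - x (.inr 2) * y (.inr 1))]
    ![x (.inl 0) * y (.inl 0) - x (.inr 1) * y (.inl 1) - x (.inr 2) * y (.inl 2)
        - x (.inr 3) * y (.inl 3),
      -(y (.inr 0) * x (.inr 1)) - x (.inl 0) * y (.inr 1)
        - (x (.inl 2) * y (.inl 3) - x (.inl 3) * y (.inl 2)),
      -(y (.inr 0) * x (.inr 2)) - x (.inl 0) * y (.inr 2)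
        - (x (.inl 3) * y (.inl 1) - x (.inl 1) * y (.inl 3)),
      -(y (.inr 0) * x (.inr 3)) - x (.inl 0) * y (.inr 3)
        - (x (.inl 1) * y (.inl 2) - x (.inl 2) * y (.inl 1))]

theorem qPlus_four_apply (x : Fin 4 ⊕ Fin 4 → F) : qPlus 4 F x =
    x (.inl 0) * x (.inr 0) + x (.inl 1) * x (.inr 1) + x (.inl 2) * x (.inr 2) +
      x (.inl 3) * x (.inr 3) := by
  rw [coe_qPlus, Cfsg.quadFormPlus, Fin.sum_univ_four]

/-- The split para-octonion algebra. -/
def paraOct (F : Type*) [Field F] : SymComp (qPlus 4 F) where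
  mul := LinearMap.mk₂ F pmul
    (fun x x' y => by
      ext i; rcases i with i | i <;> fin_cases i <;> simp [pmul] <;> ring)
    (fun c x y => by
      ext i; rcases i with i | i <;> fin_cases i <;> simp [pmul] <;> ring)
    (fun x y y' => by
      ext i; rcases i with i | i <;> fin_cases i <;> simp [pmul] <;> ring)
    (fun c x y => by
      ext i; rcases i with i | i <;> fin_cases i <;> simp [pmul] <;> ring)
  Q_mul x y := by
    simp [qPlus_four_apply, pmul]; ring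
  mul_mul x y := by
    ext i; rcases i with i | i <;> fin_cases i <;> simp [qPlus_four_apply, pmul] <;> ring
  mul_mul' x y := by
    ext i; rcases i with i | i <;> fin_cases i <;> simp [qPlus_four_apply, pmul] <;> ring
  assoc x y z := by
    simp [polar, qPlus_four_apply, pmul]; ring

end CL.Trial
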